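import Mathlib
import Groth.Agent.Lib.Lead.CohLES.H0
import Groth.Agent.Lib.Lead.FF.GGDescent
import Groth.Prelude.Def_Curv2

/-!
# Extensions of globally generated modules.
-/

set_option autoImplicit false
universe u
open CategoryTheory CategoryTheory.Limits AlgebraicGeometry TopologicalSpace Opposite

namespace Groth.Agent.H5.GG

open Groth.Agent.LD Groth.Agent.LD.QC Groth.Agent.LD.FF

variable {X : Scheme.{u}}

/-- a morphism killed after all global sections is killed after `allSections`. -/
lemma allSections_comp_eq_zero_iff {M Q : X.Modules} (c : M ⟶ Q) :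
    allSections M ≫ c = 0 ↔ ∀ s : Γ(M, ⊤), homOfSection M s ≫ c = 0 := by
  constructor
  · intro h s
    rw [← ιOn_allSections M s, Category.assoc, h, comp_zero]
  · intro h
    apply Sigma.hom_ext
    intro s
    have h1 : ιOn X s ≫ allSections M ≫ c = (ιOn X s ≫ allSections M) ≫ c :=
      (Category.assoc _ _ _).symm
    refine h1.trans ?_
    rw [ιOn_allSections, h s]
    exact comp_zero.symm

/-- a quotient of a globally generated module is globally generated. -/
theorem isGloballyGenerated_of_epi {M N : X.Modules} (π : M ⟶ N) (hπ : Epi π)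
    (h : Curv2.IsGloballyGenerated M) : Curv2.IsGloballyGenerated N := by
  obtain ⟨ι, p0, hp0⟩ := h
  let p : freeOn X ι ⟶ M := p0
  have hp : Epi p := hp0
  exact ⟨ι, p ≫ π, @epi_comp _ _ _ _ _ p hp π hπ⟩

/-- **extensions**: an extension of a globally generated module by a globally generated module
without `H¹` is globally generated. -/
theorem isGloballyGenerated_of_shortExact {S : ShortComplex X.Modules} (hS : S.ShortExact)
    (h₁ : Curv2.IsGloballyGenerated S.X₁) (h₃ : Curv2.IsGloballyGenerated S.X₃)
    (hH : Subsingleton (Coh.HH X S.X₁ 1)) : Curv2.IsGloballyGenerated S.X₂ := by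
  rw [isGloballyGenerated_iff_allSections] at h₁ h₃ ⊢
  haveI := hS.epi_g
  have hsurj : Function.Surjective (S.g.app ⊤) :=
    CL.surjective_app_top_of_injective hS (fun a b _ => hH.elim a b)
  refine Preadditive.epi_of_cancel_zero _ (fun {Q} c hc => ?_)
  rw [allSections_comp_eq_zero_iff] at hc
  have h1 : S.f ≫ c = 0 := by
    have h2 : allSections S.X₁ ≫ S.f ≫ c = 0 := by
      rw [allSections_comp_eq_zero_iff]
      intro s
      rw [← Category.assoc, homOfSection_comp]
      exact hc _
    exact (@cancel_epi _ _ _ _ _ (allSections S.X₁) h₁ _ _).mp (h2.trans comp_zero.symm)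
  have hc' : S.g ≫ hS.exact.desc c h1 = c := hS.exact.g_desc c h1
  have h3 : hS.exact.desc c h1 = 0 := by
    have h4 : allSections S.X₃ ≫ hS.exact.desc c h1 = 0 := by
      rw [allSections_comp_eq_zero_iff]
      intro s
      obtain ⟨u, hu⟩ := hsurj s
      rw [← hu, ← homOfSection_comp, Category.assoc, hc']
      exact hc u
    exact (@cancel_epi _ _ _ _ _ (allSections S.X₃) h₃ _ _).mp (h4.trans comp_zero.symm)
  rw [← hc', h3, comp_zero]

end Groth.Agent.H5.GG
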