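import Mathlib
import Groth.Agent.Lib.Lead.FPExt.Compact
import Groth.Agent.Lib.Lead.PS.FormalClosed
import Groth.Prelude.Def_Curv2
import Groth.Prelude.Def_FlatMod2

/-!
# A globally generated module of finite type on a quasi-compact scheme is generated by finitely
many global sections.
-/

set_option autoImplicit false
universe u
open CategoryTheory CategoryTheory.Limits AlgebraicGeometry TopologicalSpace Opposite

namespace Groth.Agent.H5.GG

open Groth.Agent.LD Groth.Agent.LD.QC

variable {X : Scheme.{u}}

open CoproductsFromFiniteFiltered in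
/-- **finite generation**: a globally generated quasi-coherent module of finite type on a
quasi-compact scheme is a quotient of a free module of finite rank. -/
theorem exists_epi_freeMod_of_isGloballyGenerated [CompactSpace X] (E : X.Modules)
    [E.IsQuasicoherent] (hE : E.IsFiniteType) (hgg : Curv2.IsGloballyGenerated E) :
    ∃ (n : ℕ) (p : FlatMod.freeMod X n ⟶ E), Epi p := by
  classical
  obtain ⟨ι, p, hp⟩ := hgg
  haveI := hp
  obtain ⟨l, hl⟩ := FPExt.exists_generating_list E hE
  let f : ι → X.Modules := fun _ => SheafOfModules.unit X.ringCatSheaf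
  let c := finiteSubcoproductsCocone f
  have hc : IsColimit c := isColimitFiniteSubproductsCocone f
  haveI hqf : (SheafOfModules.free ι : X.Modules).IsQuasicoherent :=
    QC.qc_colimit (Discrete.functor f) (fun j => inferInstanceAs (unitMod X).IsQuasicoherent)
  have hK : (kernel p).IsQuasicoherent := QC.qc_kernel p inferInstance inferInstance
  have key : ∀ l' : List (Σ V : X.affineOpens, Γ(E, V.1)), ∃ S : Finset (Discrete ι),
      ∀ a ∈ l', ∃ g : Γ((liftToFinsetObj (Discrete.functor f)).obj S, a.1.1),
        ((c.ι.app S ≫ p : (liftToFinsetObj (Discrete.functor f)).obj S ⟶ E)).app a.1.1 g = a.2 := by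
    intro l'
    induction l' with
    | nil => exact ⟨∅, by simp⟩
    | cons a l' ih =>
      obtain ⟨S, hS⟩ := ih
      obtain ⟨σ, hσ⟩ := @Groth.Agent.LD.PS.app_surjective_of_epi _ _ _ p hp hK _ a.1.2 a.2
      obtain ⟨S', x, hx⟩ := FPExt.sec_surj_of_isColimit hc a.1.2 σ
      refine ⟨S ∪ S', ?_⟩
      intro b hb
      rcases List.mem_cons.mp hb with rfl | hb
      · let h' : S' ⟶ S ∪ S' := homOfLE Finset.subset_union_right
        refine ⟨((liftToFinsetObj (Discrete.functor f)).map h').app _ x, ?_⟩
        have hw := c.w h'
        rw [Scheme.Modules.Hom.comp_app, ConcreteCategory.comp_apply]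
        have e1 : (c.ι.app (S ∪ S')).app b.1.1
            (((liftToFinsetObj (Discrete.functor f)).map h').app b.1.1 x) =
            (c.ι.app S').app b.1.1 x := by
          rw [← hw, Scheme.Modules.Hom.comp_app, ConcreteCategory.comp_apply]
        rw [e1, hx]
        exact hσ
      · obtain ⟨g, hg⟩ := hS b hb
        let h' : S ⟶ S ∪ S' := homOfLE Finset.subset_union_left
        refine ⟨((liftToFinsetObj (Discrete.functor f)).map h').app _ g, ?_⟩
        have hw := c.w h'
        rw [Scheme.Modules.Hom.comp_app, ConcreteCategory.comp_apply]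
        have e1 : (c.ι.app (S ∪ S')).app b.1.1
            (((liftToFinsetObj (Discrete.functor f)).map h').app b.1.1 g) =
            (c.ι.app S).app b.1.1 g := by
          rw [← hw, Scheme.Modules.Hom.comp_app, ConcreteCategory.comp_apply]
        rw [e1]
        rw [Scheme.Modules.Hom.comp_app, ConcreteCategory.comp_apply] at hg
        exact hg
  obtain ⟨S, hS⟩ := key l
  have hepi : Epi (c.ι.app S ≫ p) := hl _ _ hS
  let e : Fin S.card ≃ {x // x ∈ S} := S.equivFin.symm
  let i : FlatMod.freeMod X S.card ≅ (liftToFinsetObj (Discrete.functor f)).obj S :=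
    Sigma.whiskerEquiv (f := fun _ : Fin S.card => Coh.structureModule X)
      (g := fun x : {x // x ∈ S} => (Discrete.functor f).obj x.1) e (fun _ => Iso.refl _)
  refine ⟨S.card, i.hom ≫ c.ι.app S ≫ p, ?_⟩
  haveI := hepi
  infer_instance

end Groth.Agent.H5.GG
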