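import Mathlib
import Groth.Agent.Lib.Helper5.GG.FinGen
import Groth.Agent.Lib.Lead.KS.Chase
import Groth.Agent.Lib.Lead.Curve.Proper
import Groth.Agent.Lib.Lead.QC.LocFree2

/-!
# `H¹` of globally generated modules on a curve with `H¹(O) = 0`.
-/

set_option autoImplicit false
universe u
open CategoryTheory CategoryTheory.Limits AlgebraicGeometry TopologicalSpace Opposite

namespace Groth.Agent.H5.GG

open Groth.Agent.LD Groth.Agent.LD.QC

variable {X : Scheme.{u}}

/-- the cohomology of a free module of finite rank vanishes when that of `O_X` does. -/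
theorem subsingleton_HH_freeMod (n i : ℕ)
    (h : Subsingleton (Coh.HH X (Coh.structureModule X) i)) :
    Subsingleton (Coh.HH X (FlatMod.freeMod X n) i) := by
  let f : Fin n → X.Modules := fun _ => Coh.structureModule X
  haveI : HasBiproduct f := HasBiproduct.of_hasCoproduct f
  have h1 : Subsingleton (Coh.HH X (⨁ f) i) :=
    CL.subsingleton_of_total (P := ⨁ f) f (fun j => biproduct.ι f j) (fun j => biproduct.π f j)
      biproduct.total i (fun _ => h)
  let e : FlatMod.freeMod X n ≅ ⨁ f := (biproduct.isoCoproduct f).symm
  exact CL.subsingleton_HH_of_retract e.hom e.inv e.hom_inv_id i h1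

variable (k : Type u) [Field k] (X) [X.Over (Spec (CommRingCat.of k))]
  [IsProper (X ↘ Spec (CommRingCat.of k))]

include k in
/-- **S17650**: a globally generated coherent module on a proper scheme of dimension `≤ 1` with
`H¹(O) = 0` has no `H¹`. -/
theorem subsingleton_H1_of_isGloballyGenerated (hdim : topologicalKrullDim X ≤ 1)
    (hg : Subsingleton (Coh.HH X (Coh.structureModule X) 1)) (E : X.Modules)
    [E.IsQuasicoherent] (hE : E.IsFiniteType) (hgg : Curv2.IsGloballyGenerated E) :
    Subsingleton (Coh.HH X E 1) := by
  haveI := Curve.compactSpace k X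
  obtain ⟨n, p, hp⟩ := exists_epi_freeMod_of_isGloballyGenerated E hE hgg
  haveI := hp
  haveI hq : (FlatMod.freeMod X n).IsQuasicoherent :=
    qc_of_isFinLocFree _ (isFinLocFree_freeMod X n)
  haveI hK : (kernel p).IsQuasicoherent := QC.qc_kernel p inferInstance inferInstance
  let S : ShortComplex X.Modules := ShortComplex.mk (kernel.ι p) p (kernel.condition p)
  have hS : S.ShortExact :=
    { exact := ShortComplex.exact_of_f_is_kernel _ (kernelIsKernel p)
      mono_f := inferInstanceAs (Mono (kernel.ι p))
      epi_g := inferInstanceAs (Epi p) }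
  exact CL.subsingleton_right hS 1 (subsingleton_HH_freeMod n 1 hg)
    (Curve.subsingleton_HH_of_two_le k X hdim (kernel p) 2 le_rfl)

end Groth.Agent.H5.GG
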