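import Mathlib
import Groth.Agent.Lib.Lead.QC.ProjFormulaLF
import Groth.Agent.Lib.Lead.MS.Flat2

/-!
# Tensoring a short exact sequence with locally free cokernel.
-/

set_option autoImplicit false
universe u
open CategoryTheory CategoryTheory.Limits AlgebraicGeometry TopologicalSpace Opposite

namespace Groth.Agent.H5.GG

open Groth.Agent.LD Groth.Agent.LD.QC

variable {X : Scheme.{u}}

/-- a finite locally free module is flat in the sense of `ModSite.IsFlat`. -/
theorem isFlat_of_isFinLocFree (P : X.Modules) (hP : FlatMod.IsFinLocFree P) :
    ModSite.IsFlat (O := X.sheaf) P := by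
  haveI : PreservesFiniteLimits ((ModSite.tensorBi X.sheaf).obj P) := preservesFiniteLimits_LT P hP
  exact ⟨preservesFiniteLimits_of_natIso (MS.braidIso (O := X.sheaf) P), inferInstance⟩

/-- tensoring (on the left, with any module) a short exact sequence whose cokernel is finite
locally free stays short exact. -/
theorem shortExact_map_LT_of_isFinLocFree {S : ShortComplex X.Modules} (hS : S.ShortExact)
    (h₃ : FlatMod.IsFinLocFree S.X₃) (G : X.Modules) : (S.map (LT G)).ShortExact :=
  MS.shortExact_map_obj_of_flat (O := X.sheaf) S hS (isFlat_of_isFinLocFree S.X₃ h₃) G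

end Groth.Agent.H5.GG
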