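import Mathlib
import Groth.Agent.Lib.Helper5.GG.H1
import Groth.Agent.Lib.Helper5.GG.Ext
import Groth.Agent.Lib.Helper5.GG.TensExact
import Groth.Agent.Lib.Lead.Curve.DegMono

/-!
# Deformation ample modules on curves of arithmetic genus zero: extensions.
-/

set_option autoImplicit false
universe u
open CategoryTheory CategoryTheory.Limits AlgebraicGeometry TopologicalSpace Opposite

namespace Groth.Agent.H5.GG

open Groth.Agent.LD Groth.Agent.LD.QC

variable {X : Scheme.{u}}

/-- cohomology is invariant under isomorphisms. -/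
lemma subsingleton_HH_of_iso {M N : X.Modules} (e : M ≅ N) (i : ℕ)
    (h : Subsingleton (Coh.HH X N i)) : Subsingleton (Coh.HH X M i) :=
  CL.subsingleton_HH_of_retract e.hom e.inv e.hom_inv_id i h

variable (k : Type u) [Field k] (X) [X.Over (Spec (CommRingCat.of k))]
  [IsProper (X ↘ Spec (CommRingCat.of k))]

include k in
/-- **S17656**: extensions of deformation ample modules are deformation ample. -/
theorem defAmple_of_shortExact (hdim : topologicalKrullDim X ≤ 1)
    (hg : Subsingleton (Coh.HH X (Coh.structureModule X) 1)) (ω : X.Modules)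
    (S : ShortComplex X.Modules) (hS : S.ShortExact)
    (hE₁ : FlatMod.IsFinLocFree S.X₁) (hE₃ : FlatMod.IsFinLocFree S.X₃)
    (h₁ : Curv2.IsGloballyGenerated S.X₁ ∧ Subsingleton (Coh.HH X (CohB1.tensorMod S.X₁ ω) 1))
    (h₃ : Curv2.IsGloballyGenerated S.X₃ ∧ Subsingleton (Coh.HH X (CohB1.tensorMod S.X₃ ω) 1)) :
    Curv2.IsGloballyGenerated S.X₂ ∧ Subsingleton (Coh.HH X (CohB1.tensorMod S.X₂ ω) 1) := by
  have hc₁ := Curve.isCoh_of_isFinLocFree hE₁
  haveI := hc₁.1
  refine ⟨isGloballyGenerated_of_shortExact hS h₁.1 h₃.1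
    (subsingleton_H1_of_isGloballyGenerated (X := X) (k := k) hdim hg S.X₁ hc₁.2 h₁.1), ?_⟩
  have hS' := shortExact_map_LT_of_isFinLocFree hS hE₃ ω
  have a₁ : Subsingleton (Coh.HH X (CohB1.tensorMod ω S.X₁) 1) :=
    subsingleton_HH_of_iso (tensorCommAll ω S.X₁) 1 h₁.2
  have a₃ : Subsingleton (Coh.HH X (CohB1.tensorMod ω S.X₃) 1) :=
    subsingleton_HH_of_iso (tensorCommAll ω S.X₃) 1 h₃.2
  have a₂ : Subsingleton (Coh.HH X (CohB1.tensorMod ω S.X₂) 1) :=
    CL.subsingleton_mid hS' 1 a₁ a₃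
  exact subsingleton_HH_of_iso (tensorCommAll S.X₂ ω) 1 a₂

end Groth.Agent.H5.GG
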