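import Mathlib
import Groth.Agent.Lib.Lead.QC.TensorQC
import Groth.Agent.Lib.Lead.QC.Stalk

/-!
# The support of a tensor product of quasi-coherent modules.
-/

set_option autoImplicit false
universe u
open CategoryTheory CategoryTheory.Limits AlgebraicGeometry TopologicalSpace Opposite TensorProduct

namespace Groth.Agent.H5.GG

open Groth.Agent.LD Groth.Agent.LD.QC

/-- the support of a tensor product is contained in the support of the right factor. -/
theorem support_tensorProduct_subset_right (R : Type*) [CommRing R] (M N : Type*) [AddCommGroup M]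
    [Module R M] [AddCommGroup N] [Module R N] :
    Module.support R (M ⊗[R] N) ⊆ Module.support R N := by
  intro p hp
  by_contra hN
  rw [Module.mem_support_iff'] at hp hN
  push Not at hN
  obtain ⟨t, ht⟩ := hp
  have key : ∀ t : M ⊗[R] N, ∃ r ∉ p.asIdeal, r • t = 0 := by
    intro t
    induction t using TensorProduct.induction_on with
    | zero => exact ⟨1, (Ideal.ne_top_iff_one _).mp p.isPrime.ne_top, smul_zero _⟩
    | tmul m n =>
      obtain ⟨r, hr, hrn⟩ := hN n
      exact ⟨r, hr, by rw [TensorProduct.smul_tmul', TensorProduct.smul_tmul, hrn,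
        TensorProduct.tmul_zero]⟩
    | add a b ha hb =>
      obtain ⟨r, hr, hra⟩ := ha
      obtain ⟨s, hs, hsb⟩ := hb
      refine ⟨r * s, fun h => (p.isPrime.mem_or_mem h).elim hr hs, ?_⟩
      rw [smul_add, mul_smul r s b, hsb, smul_zero, add_zero, mul_comm, mul_smul, hra, smul_zero]
  obtain ⟨r, hr, hrt⟩ := key t
  exact ht r hr hrt

variable {X : Scheme.{u}}

/-- the support of `M ⊗ N` is contained in the support of `N`. -/
theorem support_tensorMod_subset_right (M N : X.Modules) [M.IsQuasicoherent] [N.IsQuasicoherent]
    (x : X) (h : ¬ Subsingleton ((CohB1.tensorMod M N).presheaf.stalk x)) :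
    ¬ Subsingleton (N.presheaf.stalk x) := by
  obtain ⟨U, hU, hxU, -⟩ := exists_isAffineOpen_mem_and_subset (x := x) (U := ⊤) trivial
  haveI := tensorMod_isQuasicoherent M N
  rw [← mem_support_iff_not_subsingleton_stalk _ hU x hxU,
    ← (tensorSecEquiv M N hU).support_eq] at h
  rw [← mem_support_iff_not_subsingleton_stalk N hU x hxU]
  exact support_tensorProduct_subset_right _ _ _ h

end Groth.Agent.H5.GG
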