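import Mathlib
import Groth.Agent.Lib.Helper5.GG.DefAmple
import Groth.Agent.Lib.Lead.QC.TensorQC
import Groth.Agent.Lib.Lead.QC.TensorDesc
import Groth.Agent.Lib.Lead.QC.InvBasis
import Groth.Agent.Lib.Helper5.DegC.TensorDeg

/-!
# Tensor products of globally generated modules.
-/

set_option autoImplicit false
universe u
open CategoryTheory CategoryTheory.Limits AlgebraicGeometry TopologicalSpace Opposite

namespace Groth.Agent.H5.GG

open Groth.Agent.LD Groth.Agent.LD.QC Groth.Agent.LD.FF

variable {X : Scheme.{u}}

/-- a coproduct of globally generated modules is globally generated. -/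
theorem isGloballyGenerated_sigma {J : Type*} (N : J → X.Modules) [HasCoproduct N]
    (h : ∀ j, Curv2.IsGloballyGenerated (N j)) : Curv2.IsGloballyGenerated (∐ N) := by
  rw [isGloballyGenerated_iff_allSections]
  refine Preadditive.epi_of_cancel_zero _ (fun {Q} c hc => ?_)
  rw [allSections_comp_eq_zero_iff] at hc
  apply Sigma.hom_ext
  intro j
  have hj := (isGloballyGenerated_iff_allSections (N j)).mp (h j)
  have h2 : allSections (N j) ≫ Sigma.ι N j ≫ c = 0 := by
    rw [allSections_comp_eq_zero_iff]
    intro s
    rw [← Category.assoc, homOfSection_comp]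
    exact hc _
  have h3 : Sigma.ι N j ≫ c = 0 :=
    (@cancel_epi _ _ _ _ _ (allSections (N j)) hj _ _).mp (h2.trans comp_zero.symm)
  exact h3.trans comp_zero.symm

/-- `G ⊗ O^a` is a coproduct of copies of `G`. -/
noncomputable def tensorFreeIso (G : X.Modules) (a : ℕ) :
    CohB1.tensorMod G (FlatMod.freeMod X a) ≅ ∐ fun _ : Fin a => G :=
  PreservesCoproduct.iso (LT G) (fun _ : Fin a => Coh.structureModule X) ≪≫
    Sigma.mapIso (fun _ => SecTwist.unitorR G)

/-- the tensor product of a globally generated module and a module generated by finitely many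
global sections is globally generated. -/
theorem isGloballyGenerated_tensorMod_of_epi_freeMod (N M : X.Modules)
    (hN : Curv2.IsGloballyGenerated N) (a : ℕ) (p : FlatMod.freeMod X a ⟶ M) (hp : Epi p) :
    Curv2.IsGloballyGenerated (CohB1.tensorMod N M) := by
  haveI := hp
  have h1 : Curv2.IsGloballyGenerated (CohB1.tensorMod N (FlatMod.freeMod X a)) :=
    isGloballyGenerated_of_epi (tensorFreeIso N a).inv inferInstance
      (isGloballyGenerated_sigma _ (fun _ => hN))
  haveI : (LT N).PreservesEpimorphisms := preservesEpimorphisms_of_preservesColimitsOfShape _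
  exact isGloballyGenerated_of_epi ((LT N).map p) ((LT N).map_epi p) h1

/-- a finite coproduct of modules without `Hⁱ` has no `Hⁱ`. -/
theorem subsingleton_HH_sigma_fin (n i : ℕ) (f : Fin n → X.Modules)
    (h : ∀ j, Subsingleton (Coh.HH X (f j) i)) : Subsingleton (Coh.HH X (∐ f) i) := by
  haveI : HasBiproduct f := HasBiproduct.of_hasCoproduct f
  have h1 : Subsingleton (Coh.HH X (⨁ f) i) :=
    CL.subsingleton_of_total (P := ⨁ f) f (fun j => biproduct.ι f j) (fun j => biproduct.π f j)
      biproduct.total i h
  exact subsingleton_HH_of_iso (biproduct.isoCoproduct f).symm i h1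

variable (k : Type u) [Field k] (X) [X.Over (Spec (CommRingCat.of k))]
  [IsProper (X ↘ Spec (CommRingCat.of k))]

include k in
/-- if `H¹(G) = 0` and `P` is coherent and globally generated then `H¹(G ⊗ P) = 0`, on a proper
scheme of dimension `≤ 1`. -/
theorem subsingleton_H1_tensorMod_of_isGloballyGenerated (hdim : topologicalKrullDim X ≤ 1)
    (G : X.Modules) [G.IsQuasicoherent] (hG : Subsingleton (Coh.HH X G 1))
    (P : X.Modules) [P.IsQuasicoherent] (hP : P.IsFiniteType)
    (hgg : Curv2.IsGloballyGenerated P) :
    Subsingleton (Coh.HH X (CohB1.tensorMod G P) 1) := by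
  haveI := Curve.compactSpace k X
  obtain ⟨a, p, hp⟩ := exists_epi_freeMod_of_isGloballyGenerated P hP hgg
  haveI := hp
  haveI hq : (FlatMod.freeMod X a).IsQuasicoherent :=
    qc_of_isFinLocFree _ (isFinLocFree_freeMod X a)
  let π : CohB1.tensorMod G (FlatMod.freeMod X a) ⟶ CohB1.tensorMod G P := (LT G).map p
  haveI : (LT G).PreservesEpimorphisms := preservesEpimorphisms_of_preservesColimitsOfShape _
  haveI : Epi π := (LT G).map_epi p
  haveI q1 : (CohB1.tensorMod G (FlatMod.freeMod X a)).IsQuasicoherent :=
    tensorMod_isQuasicoherent _ _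
  haveI q2 : (CohB1.tensorMod G P).IsQuasicoherent := tensorMod_isQuasicoherent _ _
  haveI hK : (kernel π).IsQuasicoherent := QC.qc_kernel π inferInstance inferInstance
  let S : ShortComplex X.Modules := ShortComplex.mk (kernel.ι π) π (kernel.condition π)
  have hS : S.ShortExact :=
    { exact := ShortComplex.exact_of_f_is_kernel _ (kernelIsKernel π)
      mono_f := inferInstanceAs (Mono (kernel.ι π))
      epi_g := inferInstanceAs (Epi π) }
  have h0 : Subsingleton (Coh.HH X (CohB1.tensorMod G (FlatMod.freeMod X a)) 1) :=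
    subsingleton_HH_of_iso (tensorFreeIso G a) 1
      (subsingleton_HH_sigma_fin a 1 _ (fun _ => hG))
  exact CL.subsingleton_right hS 1 h0
    (Curve.subsingleton_HH_of_two_le k X hdim (kernel π) 2 le_rfl)

end Groth.Agent.H5.GG
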