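import Mathlib
import Groth.Agent.Lib.Helper5.GG.Tensor

/-!
# Tensor powers of deformation ample modules.
-/

set_option autoImplicit false
universe u
open CategoryTheory CategoryTheory.Limits AlgebraicGeometry TopologicalSpace Opposite

namespace Groth.Agent.H5.GG

open Groth.Agent.LD Groth.Agent.LD.QC Groth.Agent.LD.FF Groth.Agent.H5.DegC

variable {X : Scheme.{u}}

theorem isCoh_tensorPow {E : X.Modules} (hE : Coh.IsCoh E) :
    ∀ n : ℕ, Coh.IsCoh (CohB1.tensorPow E n)
  | 0 => PF.isCoh_unitMod X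
  | n + 1 => isCoh_tensorMod' (isCoh_tensorPow hE n) hE

variable (k : Type u) [Field k] (X) [X.Over (Spec (CommRingCat.of k))]
  [IsProper (X ↘ Spec (CommRingCat.of k))]

include k in
/-- **S17657**: tensor powers of deformation ample modules are deformation ample. -/
theorem defAmple_tensorPow (hdim : topologicalKrullDim X ≤ 1) (ω : X.Modules)
    [ω.IsQuasicoherent] (E : X.Modules) (hE : Coh.IsCoh E)
    (h₁ : Curv2.IsGloballyGenerated E ∧ Subsingleton (Coh.HH X (CohB1.tensorMod E ω) 1))
    (n : ℕ) (hn : 1 ≤ n) :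
    Curv2.IsGloballyGenerated (CohB1.tensorPow E n) ∧
      Subsingleton (Coh.HH X (CohB1.tensorMod (CohB1.tensorPow E n) ω) 1) := by
  haveI := Curve.compactSpace k X
  haveI := hE.1
  induction n, hn using Nat.le_induction with
  | base =>
    let e₁ : CohB1.tensorMod (Coh.structureModule X) E ≅ E :=
      tensorCommAll _ _ ≪≫ SecTwist.unitorR E
    refine ⟨isGloballyGenerated_of_epi e₁.inv inferInstance h₁.1, ?_⟩
    exact subsingleton_HH_of_iso (tensorIso' e₁ (Iso.refl ω)) 1 h₁.2
  | succ n hn ih =>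
    have hPc := isCoh_tensorPow hE n
    haveI := hPc.1
    obtain ⟨a, p, hp⟩ := exists_epi_freeMod_of_isGloballyGenerated E hE.2 h₁.1
    refine ⟨isGloballyGenerated_tensorMod_of_epi_freeMod _ E ih.1 a p hp, ?_⟩
    haveI : (CohB1.tensorMod E ω).IsQuasicoherent := tensorMod_isQuasicoherent _ _
    have h2 := subsingleton_H1_tensorMod_of_isGloballyGenerated (X := X) (k := k) hdim
      (CohB1.tensorMod E ω) h₁.2 (CohB1.tensorPow E n) hPc.2 ih.1
    exact subsingleton_HH_of_iso
      (tensorAssoc (CohB1.tensorPow E n) E ω ≪≫ tensorCommAll _ _) 1 h2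

end Groth.Agent.H5.GG
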