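import Mathlib
import Groth.Agent.Lib.Helper5.GG.Tensor
import Groth.Agent.Lib.Helper5.GG.SuppTens
import Groth.Agent.Lib.Helper5.Curve2.B
import Groth.Agent.Lib.Helper5.DegC.RankDeg
import Groth.Agent.Lib.Lead.GS.Dim0
import Groth.Agent.Lib.Lead.QC.SerreSupp

/-!
# Deformation ample modules: morphisms with torsion cokernel.
-/

set_option autoImplicit false
universe u
open CategoryTheory CategoryTheory.Limits AlgebraicGeometry TopologicalSpace Opposite

namespace Groth.Agent.H5.GG

open Groth.Agent.LD Groth.Agent.LD.QC Groth.Agent.LD.FF Groth.Agent.H5.DegC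

variable (k : Type u) [Field k] (X : Scheme.{u}) [X.Over (Spec (CommRingCat.of k))]
  [IsProper (X ↘ Spec (CommRingCat.of k))]

include k in
/-- **S17655**: a module receiving a morphism with torsion cokernel from a deformation ample
module is deformation ample. -/
theorem defAmple_of_cokernel_torsion (hdim : topologicalKrullDim X ≤ 1)
    (hg : Subsingleton (Coh.HH X (Coh.structureModule X) 1)) (ω : X.Modules)
    [ω.IsQuasicoherent] (E₁ E₂ : X.Modules) (hE₁ : Coh.IsCoh E₁) (hE₂ : Coh.IsCoh E₂)
    (φ : E₁ ⟶ E₂) (htors : ∀ x ∈ CohB1.support (cokernel φ), IsClosed ({x} : Set X))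
    (h₁ : Curv2.IsGloballyGenerated E₁ ∧ Subsingleton (Coh.HH X (CohB1.tensorMod E₁ ω) 1)) :
    Curv2.IsGloballyGenerated E₂ ∧ Subsingleton (Coh.HH X (CohB1.tensorMod E₂ ω) 1) := by
  haveI : IsNoetherian X := Groth.Agent.H5.Curve2.isNoetherian_of_proper k X
  haveI := hE₁.1
  haveI := hE₂.1
  have hTc : Coh.IsCoh (cokernel φ) := isCoh_cokernel φ hE₁ hE₂
  haveI := hTc.1
  have hIc : Coh.IsCoh (kernel (cokernel.π φ)) := isCoh_kernel _ hE₂ hTc
  haveI := hIc.1
  have hTcl : IsClosed (CohB1.support (cokernel φ)) := isClosed_support_of_isCoh hTc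
  constructor
  · -- global generation
    let S₂ : ShortComplex X.Modules :=
      ShortComplex.mk (kernel.ι (cokernel.π φ)) (cokernel.π φ) (kernel.condition _)
    have hS₂ : S₂.ShortExact :=
      { exact := ShortComplex.exact_kernel (cokernel.π φ)
        mono_f := inferInstanceAs (Mono (kernel.ι (cokernel.π φ)))
        epi_g := inferInstanceAs (Epi (cokernel.π φ)) }
    have ggI : Curv2.IsGloballyGenerated (kernel (cokernel.π φ)) :=
      isGloballyGenerated_of_epi (Abelian.factorThruImage φ) inferInstance h₁.1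
    have hI1 : Subsingleton (Coh.HH X (kernel (cokernel.π φ)) 1) :=
      subsingleton_H1_of_isGloballyGenerated (X := X) (k := k) hdim hg _ hIc.2 ggI
    haveI : QuasiSober (CohB1.support (cokernel φ)) :=
      hTcl.isClosedEmbedding_subtypeVal.quasiSober
    have hsupp : topologicalKrullDim (CohB1.support (cokernel φ)) ≤ 0 := by
      apply dim_le_zero_of_forall_isClosed_singleton
      intro y
      have h1 : IsClosed ({y.1} : Set X) := htors y.1 y.2
      have h2 : ({y} : Set (CohB1.support (cokernel φ))) = Subtype.val ⁻¹' {y.1} := by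
        ext z
        simp only [Set.mem_singleton_iff, Set.mem_preimage]
        exact Subtype.ext_iff
      rw [h2]
      exact h1.preimage continuous_subtype_val
    have ggT : Curv2.IsGloballyGenerated (cokernel φ) :=
      GS.isGloballyGenerated_of_support_dim _ hTc.2 hsupp
    exact isGloballyGenerated_of_shortExact hS₂ ggI ggT hI1
  · -- vanishing of `H¹`
    let ψ : CohB1.tensorMod ω E₁ ⟶ CohB1.tensorMod ω E₂ := (LT ω).map φ
    haveI q1 : (CohB1.tensorMod ω E₁).IsQuasicoherent := tensorMod_isQuasicoherent _ _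
    haveI q2 : (CohB1.tensorMod ω E₂).IsQuasicoherent := tensorMod_isQuasicoherent _ _
    haveI q3 : (cokernel ψ).IsQuasicoherent := qc_cokernel ψ q1 q2
    haveI q4 : (kernel (cokernel.π ψ)).IsQuasicoherent := qc_kernel _ q2 q3
    let e' : CohB1.tensorMod ω E₁ ⟶ kernel (cokernel.π ψ) := Abelian.factorThruImage ψ
    haveI : Epi e' := inferInstanceAs (Epi (Abelian.factorThruImage ψ))
    haveI q5 : (kernel e').IsQuasicoherent := qc_kernel _ q1 q4
    let S₃ : ShortComplex X.Modules := ShortComplex.mk (kernel.ι e') e' (kernel.condition e')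
    have hS₃ : S₃.ShortExact :=
      { exact := ShortComplex.exact_of_f_is_kernel _ (kernelIsKernel e')
        mono_f := inferInstanceAs (Mono (kernel.ι e'))
        epi_g := inferInstanceAs (Epi e') }
    have a₁ : Subsingleton (Coh.HH X (CohB1.tensorMod ω E₁) 1) :=
      subsingleton_HH_of_iso (tensorCommAll ω E₁) 1 h₁.2
    have hJ : Subsingleton (Coh.HH X (kernel (cokernel.π ψ)) 1) :=
      CL.subsingleton_right hS₃ 1 a₁
        (Curve.subsingleton_HH_of_two_le k X hdim (kernel e') 2 le_rfl)
    let S₄ : ShortComplex X.Modules :=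
      ShortComplex.mk (kernel.ι (cokernel.π ψ)) (cokernel.π ψ) (kernel.condition _)
    have hS₄ : S₄.ShortExact :=
      { exact := ShortComplex.exact_kernel (cokernel.π ψ)
        mono_f := inferInstanceAs (Mono (kernel.ι (cokernel.π ψ)))
        epi_g := inferInstanceAs (Epi (cokernel.π ψ)) }
    -- the cokernel is `ω ⊗ T`
    have hfin : (CohB1.support (cokernel φ)).Finite :=
      Groth.Agent.H5.Curve2.finite_of_isClosed_of_closed_points _ hTcl htors
    have hsub : {x : X | ¬ Subsingleton ((CohB1.tensorMod ω (cokernel φ)).presheaf.stalk x)} ⊆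
        CohB1.support (cokernel φ) := fun x hx => support_tensorMod_subset_right ω _ x hx
    have hZ : IsClosed
        {x : X | ¬ Subsingleton ((CohB1.tensorMod ω (cokernel φ)).presheaf.stalk x)} := by
      rw [← Set.biUnion_of_singleton
        {x : X | ¬ Subsingleton ((CohB1.tensorMod ω (cokernel φ)).presheaf.stalk x)}]
      exact (hfin.subset hsub).isClosed_biUnion fun x hx => htors x (hsub hx)
    have hT1 : Subsingleton (Coh.HH X (CohB1.tensorMod ω (cokernel φ)) 1) :=
      SC.subsingleton_HH_of_support_closed_points _ hZ (fun x hx => htors x (hsub hx)) 0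
    have hC1 : Subsingleton (Coh.HH X (cokernel ψ) 1) :=
      subsingleton_HH_of_iso (PreservesCokernel.iso (LT ω) φ).symm 1 hT1
    have a₂ : Subsingleton (Coh.HH X (CohB1.tensorMod ω E₂) 1) :=
      CL.subsingleton_mid hS₄ 1 hJ hC1
    exact subsingleton_HH_of_iso (tensorCommAll E₂ ω) 1 a₂

end Groth.Agent.H5.GG
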